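import Groth.Agent.LinRed66.Main
import Groth.Agent.RedRk29.Translate
import Groth.Agent.Obs28.Unip.Main
import Groth.Agent.ComodLib.BaseChange
import Groth.Agent.ComodLib.Integral

/-!
Reductive groups over fields of characteristic zero are linearly reductive.
-/

set_option autoImplicit false
set_option linter.style.haveILetI false

universe u

open CategoryTheory CategoryTheory.Limits MonoidalCategory CartesianMonoidalCategory MonObj GrpObj AlgebraicGeometry
open TensorProduct

namespace Groth.Agent.LinRed66

open GrpSchLib.AffineHopf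

section IsoFacts

variable {k : Type u} [Field k] {A : Type u} [CommRing A] [HopfAlgebra k A]
  {X : Over (Spec (CommRingCat.of k))} [GrpObj X]

theorem isIso_left (e : Grp.mk (sp k A) ≅ Grp.mk X) :
    IsIso (e.hom.hom.hom.left : Spec (CommRingCat.of A) ⟶ X.left) := by
  haveI : IsIso e.hom.hom.hom := ⟨e.inv.hom.hom, congrArg (fun k => k.hom.hom) e.hom_inv_id,
    congrArg (fun k => k.hom.hom) e.inv_hom_id⟩
  exact inferInstanceAs (IsIso ((Over.forget _).map e.hom.hom.hom))

theorem finiteType_of_iso (e : Grp.mk (sp k A) ≅ Grp.mk X) [Smooth X.hom] : Algebra.FiniteType k A := by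
  haveI := isIso_left e
  have h : LocallyOfFiniteType (e.hom.hom.hom.left ≫ X.hom) := inferInstance
  rw [Over.w e.hom.hom.hom] at h
  exact RingHom.finiteType_algebraMap.mp ((HasRingHomProperty.Spec_iff (P := @LocallyOfFiniteType)).mp h)

theorem isDomain_of_iso [IsAlgClosed k] (e : Grp.mk (sp k A) ≅ Grp.mk X) [IsAffine X.left] [Smooth X.hom]
    [ConnectedSpace X.left] : IsDomain A := by
  haveI := isIso_left e
  haveI := Obs28.Unip.isIntegral_grp (G := X)
  haveI : Nonempty (Spec (CommRingCat.of A)) :=
    ⟨(inv (e.hom.hom.hom.left : Spec (CommRingCat.of A) ⟶ X.left)).base (Classical.choice inferInstance)⟩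
  haveI : IsIntegral (Spec (CommRingCat.of A)) :=
    @isIntegral_of_isOpenImmersion (Spec (CommRingCat.of A)) X.left e.hom.hom.hom.left
      (@IsOpenImmersion.of_isIso _ _ e.hom.hom.hom.left (isIso_left e)) inferInstance inferInstance
  exact (affine_isIntegral_iff (CommRingCat.of A)).mp ‹_›

/-- A reductive group over an algebraically closed field of characteristic zero is linearly reductive. -/
theorem isLinearlyReductive_of_isReductiveOver [IsAlgClosed k] [CharZero k] (e : Grp.mk (sp k A) ≅ Grp.mk X)
    (hX : Red.IsReductiveOver k X) : HopfRep.IsLinearlyReductive k A := by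
  haveI := hX.1
  haveI := hX.2.1
  haveI := hX.2.2.1
  haveI := isDomain_of_iso e
  haveI := finiteType_of_iso e
  exact isLinearlyReductive_of_noUnipotentNormal (RedRk29.noUnipotentNormal e hX)

end IsoFacts

variable {k : Type u} [Field k] [CharZero k]

/-- A reductive group scheme over a field of characteristic zero has a linearly reductive Hopf algebra. -/
theorem isLinearlyReductive_of_isReductive {A : Type u} [CommRing A] [HopfAlgebra k A]
    {G : Over (Spec (CommRingCat.of k))} [GrpObj G] (e : Grp.mk (sp k A) ≅ Grp.mk G)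
    (hG : Red.IsReductive G) : HopfRep.IsLinearlyReductive k A := by
  obtain ⟨-, hsm, hfib⟩ := hG
  haveI := hsm
  haveI := finiteType_of_iso e
  let s : Spec (CommRingCat.of k) := Classical.choice inferInstance
  let K := AlgebraicClosure ((Spec (CommRingCat.of k)).residueField s)
  obtain ⟨ρ, hρ⟩ : ∃ ρ : CommRingCat.of k ⟶ CommRingCat.of K, Spec.map ρ = Red.geomPt s :=
    ⟨Spec.preimage _, Spec.map_preimage _⟩
  letI : Algebra k K := ρ.hom.toAlgebra
  haveI : CharZero K := charZero_of_injective_algebraMap (algebraMap k K).injective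
  have hmap : Spec.map (CommRingCat.ofHom (algebraMap k K)) = Red.geomPt s := hρ
  obtain ⟨e1⟩ := nonempty_bc_sp (R := k) K A
  obtain ⟨e2⟩ := nonempty_bc_iso _ _ hmap G
  let e3 : Grp.mk (sp K (K ⊗[k] A)) ≅ Grp.mk (Red.geomFibre s G) :=
    e1.symm ≪≫ (Over.pullback (Spec.map (CommRingCat.ofHom (algebraMap k K)))).mapGrp.mapIso e ≪≫ e2
  obtain ⟨β, hβ, h1⟩ := ComodLib.exists_integral_of_isLinearlyReductive
    (isLinearlyReductive_of_isReductiveOver e3 (hfib s))
  obtain ⟨α, hα, hα1⟩ := ComodLib.exists_integral_descent K hβ h1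
  exact ComodLib.isLinearlyReductive_of_integral hα hα1

/-- A reductive group scheme over a field of characteristic zero is the spectrum of a finitely generated linearly
reductive Hopf algebra. -/
theorem exists_model_isLinearlyReductive {G : Over (Spec (CommRingCat.of k))} [GrpObj G] (hG : Red.IsReductive G) :
    ∃ (A : Type u) (_ : CommRing A) (_ : HopfAlgebra k A), Algebra.FiniteType k A ∧
      HopfRep.IsLinearlyReductive k A ∧ Nonempty (Grp.mk (sp k A) ≅ Grp.mk G) := by
  haveI := hG.1
  haveI := hG.2.1
  haveI : IsAffine G.left := isAffine_of_isAffineHom G.hom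
  obtain ⟨A, _, _, ⟨e⟩⟩ := exists_hopf G
  exact ⟨A, inferInstance, inferInstance, finiteType_of_iso e, isLinearlyReductive_of_isReductive e hG, ⟨e⟩⟩

/-- The case of the spectrum of a Hopf algebra. -/
theorem isLinearlyReductive_of_isReductive_spec {A : Type u} [CommRing A] [HopfAlgebra k A]
    (hG : Red.IsReductive ((Spec (CommRingCat.of A)).asOver (Spec (CommRingCat.of k)))) :
    HopfRep.IsLinearlyReductive k A :=
  isLinearlyReductive_of_isReductive (Iso.refl _) hG

end Groth.Agent.LinRed66
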