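import Mathlib.Algebra.Lie.CartanCriterion
import Mathlib.Algebra.Lie.Semisimple.Lemmas
import Mathlib.Algebra.Lie.LieTheorem
import Mathlib.LinearAlgebra.BilinearForm.Properties

/-!
Whitehead's lemma for a faithful irreducible module, by a Casimir element of its trace form.
-/

set_option linter.style.haveILetI false

universe u v w

open LieModule LieAlgebra Module

namespace Groth.Agent.LinRed66

variable {k : Type u} [Field k] [IsAlgClosed k] [CharZero k]
  {L : Type v} [LieRing L] [LieAlgebra k L] [Module.Finite k L]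
  {S : Type w} [AddCommGroup S] [Module k S] [LieRingModule L S] [LieModule k L S] [Module.Finite k S]

/-- The trace form of a faithful irreducible module is non-degenerate. -/
theorem traceForm_nondegenerate [IsIrreducible k L S] [IsFaithful k L S] :
    (traceForm k L S).Nondegenerate := by
  refine (traceForm_isSymm k L S).isRefl.nondegenerate_iff_separatingLeft.mpr ?_
  haveI := nontrivial_of_isIrreducible k L S
  let N : LieIdeal k L :=
    { LinearMap.ker (traceForm k L S) with
      lie_mem := fun {x m} hm => by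
        refine LinearMap.mem_ker.mpr (LinearMap.ext fun y => ?_)
        have h : traceForm k L S m ⁅x, y⁆ = 0 := LinearMap.congr_fun (LinearMap.mem_ker.mp hm) _
        rw [LinearMap.zero_apply, traceForm_apply_lie_apply' k L S x m y, h, neg_zero] }
  have hN : ∀ {x}, x ∈ N ↔ ∀ y, traceForm k L S x y = 0 := fun {x} =>
    ⟨fun h y => LinearMap.congr_fun (LinearMap.mem_ker.mp h) y, fun h => LinearMap.mem_ker.mpr (LinearMap.ext h)⟩
  have htf : traceForm k N S = 0 := by
    ext ⟨x, hx⟩ ⟨y, hy⟩
    exact hN.mp hx y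
  have hnil := LieModule.isNilpotent_derivedSeries_of_traceForm_eq_zero htf
  let D : LieIdeal k L := ⁅N, N⁆
  have hDnil : LieModule.IsNilpotent D S := by
    refine (LieModule.isNilpotent_iff_forall' (R := k)).mpr fun ⟨x, hx⟩ => ?_
    have hx' : (⟨x, LieSubmodule.lie_le_left N N hx⟩ : N) ∈ derivedSeries k N 1 := by
      rwa [LieIdeal.derivedSeries_eq_derivedSeriesOfIdeal_comap, LieIdeal.mem_comap]
    exact (LieModule.isNilpotent_iff_forall' (R := k)).mp hnil ⟨_, hx'⟩
  let T : LieSubmodule k L S :=
    { carrier := {m | ∀ x ∈ D, ⁅x, m⁆ = 0}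
      add_mem' := fun ha hb x hx => by rw [lie_add, ha x hx, hb x hx, add_zero]
      zero_mem' := fun x _ => lie_zero x
      smul_mem' := fun c m hm x hx => by rw [lie_smul, hm x hx, smul_zero]
      lie_mem := fun {y m} hm x hx => by
        rw [leibniz_lie, hm x hx, lie_zero, add_zero]
        exact hm _ (lie_mem_left k L D x y hx) }
  haveI : Nontrivial T := by
    haveI := hDnil
    have := LieModule.nontrivial_max_triv_of_isNilpotent (R := k) (L := D) (M := S)
    obtain ⟨⟨m, hm⟩, hne⟩ := exists_ne (0 : maxTrivSubmodule k D S)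
    refine nontrivial_of_ne (⟨m, fun x hx => hm ⟨x, hx⟩⟩ : T) 0 fun h => hne ?_
    exact Subtype.ext (congrArg Subtype.val h :)
  have hT : ∀ (x : L) (m : S), x ∈ D → ⁅x, m⁆ = 0 := fun x m hx =>
    (show m ∈ T by rw [T.eq_top_of_isIrreducible]; exact LieSubmodule.mem_top m) x hx
  have hDbot : D = ⊥ := (LieSubmodule.eq_bot_iff _).mpr fun x hx => by
    rw [← toEnd_eq_zero_iff (R := k) (L := L) (M := S)]
    exact LinearMap.ext fun m => hT x m hx
  haveI : IsLieAbelian N := (LieSubmodule.lie_abelian_iff_lie_self_eq_bot N).mpr hDbot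
  obtain ⟨hc, hscal⟩ := hasCentralRadical_and_of_isIrreducible_of_isFaithful k L S
  have hle : N ≤ center k L := by
    rw [← hc.radical_eq_center]
    exact (LieIdeal.solvable_iff_le_radical k L N).mp inferInstance
  intro x hx
  obtain ⟨t, ht⟩ := Submodule.mem_span_singleton.mp ((hscal x).mp (hle (hN.mpr hx)))
  have h0 : (finrank k S : k) * (t * t) = 0 := by
    have := hx x
    rw [traceForm_apply_apply, ← ht] at this
    rw [show (t • LinearMap.id : Module.End k S) ∘ₗ (t • LinearMap.id) = (t * t) • LinearMap.id from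
      LinearMap.ext fun m => by simp [smul_smul], map_smul, LinearMap.trace_id, smul_eq_mul] at this
    rw [mul_comm]; exact this
  have : (finrank k S : k) ≠ 0 := Nat.cast_ne_zero.mpr finrank_pos.ne'
  have ht0 : t = 0 := by simpa [this] using h0
  rw [← toEnd_eq_zero_iff (R := k) (L := L) (M := S), ← ht, ht0, zero_smul]

/-- A cocycle with values in a faithful irreducible module of a nonzero algebra is a coboundary. -/
theorem exists_eq_lie_of_cocycle [IsIrreducible k L S] [IsFaithful k L S] [Nontrivial L] (c : L →ₗ[k] S)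
    (hc : ∀ x y, c ⁅x, y⁆ = ⁅x, c y⁆ - ⁅y, c x⁆) : ∃ s : S, ∀ x, c x = ⁅x, s⁆ := by
  classical
  haveI := nontrivial_of_isIrreducible k L S
  set B := traceForm k L S with hBdef
  have hB : B.Nondegenerate := traceForm_nondegenerate
  have hBsymm : B.IsSymm := LinearMap.BilinForm.isSymm_iff.mpr (traceForm_isSymm k L S)
  let b := Module.finBasis k L
  let b' := B.dualBasis hB b
  have hinv : ∀ {P : Type w} [AddCommGroup P] [Module k P] (Φ : L →ₗ[k] L →ₗ[k] P) (x : L),
      ∑ i, (Φ ⁅x, b i⁆ (b' i) + Φ (b i) ⁅x, b' i⁆) = 0 := by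
    intro P _ _ Φ x
    have e1 : ∀ y : L, y = ∑ j, B y (b' j) • b j := fun y => by
      conv_lhs => rw [← (b.sum_repr y)]
      refine Finset.sum_congr rfl fun j _ => ?_
      congr 1
      calc b.repr y j = (B.dualBasis hB b').repr y j := by rw [B.dualBasis_dualBasis hB hBsymm]
        _ = B y (b' j) := B.dualBasis_repr_apply hB b' y j
    have e2 : ∀ y : L, y = ∑ j, B y (b j) • b' j := fun y => by
      conv_lhs => rw [← (b'.sum_repr y)]
      simp [b', LinearMap.BilinForm.dualBasis_repr_apply]
    rw [Finset.sum_add_distrib]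
    conv_lhs => enter [1, 2, i]; rw [e1 ⁅x, b i⁆]
    conv_lhs => enter [2, 2, i]; rw [e2 ⁅x, b' i⁆]
    simp only [map_sum, map_smul, LinearMap.sum_apply, LinearMap.smul_apply]
    rw [Finset.sum_comm, ← Finset.sum_add_distrib]
    refine Finset.sum_eq_zero fun i _ => ?_
    rw [← Finset.sum_add_distrib]
    refine Finset.sum_eq_zero fun j _ => ?_
    rw [← add_smul]
    convert zero_smul k _
    rw [hBdef, traceForm_apply_lie_apply' k L S x (b' i), ← traceForm_comm k L S (b' i)]
    exact add_neg_cancel _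
  let C : Module.End k S := ∑ i, toEnd k L S (b i) * toEnd k L S (b' i)
  have hC : ∀ (x : L) (m : S), ⁅x, C m⁆ = C ⁅x, m⁆ := fun x m => by
    have h := hinv (LinearMap.mk₂ k (fun y z => ⁅y, ⁅z, m⁆⁆) (fun a a' z => add_lie a a' _)
      (fun r a z => smul_lie r a _) (fun a z z' => by rw [add_lie, lie_add])
      (fun r a z => by rw [smul_lie, lie_smul])) x
    simp only [LinearMap.mk₂_apply] at h
    simp only [C, LinearMap.coe_sum, Finset.sum_apply, Module.End.mul_apply, toEnd_apply_apply, lie_sum]
    rw [← sub_eq_zero, ← Finset.sum_sub_distrib, ← h]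
    refine Finset.sum_congr rfl fun i _ => ?_
    rw [lie_lie x (b i), lie_lie x (b' i), lie_sub]
    abel
  obtain ⟨μ, hμ⟩ := Module.End.exists_eigenvalue C
  let T : LieSubmodule k L S :=
    { C.eigenspace μ with
      lie_mem := fun {x m} hm => Module.End.mem_eigenspace_iff.mpr (by
        rw [← hC, Module.End.mem_eigenspace_iff.mp hm, lie_smul]) }
  haveI : Nontrivial T := by
    obtain ⟨m, hm⟩ := hμ.exists_hasEigenvector
    exact nontrivial_of_ne (⟨m, hm.1⟩ : T) 0 fun h => hm.2 (congrArg Subtype.val h :)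
  have hCμ : ∀ m, C m = μ • m := fun m =>
    Module.End.mem_eigenspace_iff.mp (show m ∈ T by rw [T.eq_top_of_isIrreducible]; exact LieSubmodule.mem_top m)
  have hμ0 : μ ≠ 0 := by
    intro h
    have h1 : LinearMap.trace k S C = (finrank k L : k) := by
      simp only [C, map_sum]
      rw [Finset.sum_congr rfl fun i _ => (show LinearMap.trace k S (toEnd k L S (b i) * toEnd k L S (b' i)) = 1 by
        rw [Module.End.mul_eq_comp, ← traceForm_apply_apply, ← hBdef, B.apply_dualBasis_right hB hBsymm,
          if_pos rfl])]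
      simp
    rw [show C = 0 from LinearMap.ext fun m => by rw [hCμ, h, zero_smul, LinearMap.zero_apply], map_zero] at h1
    exact (Nat.cast_ne_zero.mpr finrank_pos.ne') h1.symm
  refine ⟨μ⁻¹ • ∑ i, ⁅b i, c (b' i)⁆, fun x => ?_⟩
  have h := hinv (LinearMap.mk₂ k (fun y z => ⁅y, c z⁆) (fun a a' z => add_lie a a' _)
      (fun r a z => smul_lie r a _) (fun a z z' => by rw [map_add, lie_add])
      (fun r a z => by rw [map_smul, lie_smul])) x
  simp only [LinearMap.mk₂_apply] at h
  have key : ⁅x, ∑ i, ⁅b i, c (b' i)⁆⁆ = μ • c x := by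
    rw [← hCμ, ← sub_eq_zero, ← h, lie_sum]
    simp only [C, LinearMap.coe_sum, Finset.sum_apply, Module.End.mul_apply, toEnd_apply_apply]
    rw [← Finset.sum_sub_distrib]
    refine Finset.sum_congr rfl fun i _ => ?_
    rw [hc x (b' i), lie_sub, lie_lie x (b i)]
    abel
  rw [lie_smul, key, smul_smul, inv_mul_cancel₀ hμ0, one_smul]

end Groth.Agent.LinRed66
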