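import Groth.Agent.LinRed66.Unipotent
import Mathlib.LinearAlgebra.Eigenspace.Triangularizable
import Mathlib.Algebra.DirectSum.Module

/-!
Without unipotent normal subgroups the tangent space acts faithfully on simple comodules; tangent vectors acting
by scalars on simple comodules act semisimply.
-/

set_option linter.style.haveILetI false

set_option linter.unusedSectionVars false

universe u

open TensorProduct WithConv Polynomial

namespace Groth.Agent.LinRed66

open Groth.Agent.ComodLib
open Groth.Agent.BigCell29 (Pt pt_ext)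

variable {k : Type u} [Field k] [IsAlgClosed k] [CharZero k]
  {A : Type u} [CommRing A] [HopfAlgebra k A] [Algebra.FiniteType k A]

theorem coefFun_repHom {V : Type u} [AddCommGroup V] [Module k V] [HopfRep.Comod k A V] (x : lieSub k A)
    (f : V →ₗ[k] k) (v : V) : coefFun (C := A) f (repHom V x v) = x.1 (coefFun (C := A) f v) := by
  rw [show repHom V x v = actF (LieHopf.dlin (tanOf x)) v from rfl, comodHom_actF (isComodHom_coefFun f),
    ← lieOp_tanOf x]
  rfl

theorem coefFun_repHom_pow {V : Type u} [AddCommGroup V] [Module k V] [HopfRep.Comod k A V] (x : lieSub k A)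
    (f : V →ₗ[k] k) (n : ℕ) (v : V) :
    coefFun (C := A) f ((repHom V x ^ n) v) = (x.1 ^ n) (coefFun (C := A) f v) := by
  induction n generalizing v with
  | zero => simp
  | succ n ih => rw [pow_succ, pow_succ, Module.End.mul_apply, Module.End.mul_apply, ih, coefFun_repHom]

theorem val_mul (x : lieSub k A) (a b : A) : x.1 (a * b) = a * x.1 b + b * x.1 a := by
  rw [← lieOp_tanOf x]; exact lieOp_mul _ a b

theorem val_one (x : lieSub k A) : x.1 1 = 0 := by
  rw [← lieOp_tanOf x]; exact lieOp_one _

/-- A tangent vector killing every simple comodule vanishes. -/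
theorem eq_zero_of_simple (hred : RedRk29.NoUnipotentNormal k A) (x : lieSub k A)
    (hx : ∀ (S : Type u) [AddCommGroup S] [Module k S] [HopfRep.Comod k A S], Module.Finite k S →
      HopfRep.IsSimpleComod k A S → repHom S x = 0) : x = 0 := by
  classical
  have hnilA : ∀ a : A, ∃ N, ∀ n, N ≤ n → (x.1 ^ n) a = 0 := by
    intro a
    obtain ⟨U, hUf, ha, hU⟩ := exists_finite_subcomod_mem (k := k) (C := A) a
    letI cU : HopfRep.Comod k A U := ComodSub.Comod.restr (HopfRep.Comod.regular k A) U hU
    have hi : Hoch.IsComodHom A U.subtype := ComodSub.isComodHom_subtype _ U hU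
    obtain ⟨N, hN⟩ := isNilpotent_of_simple (LieHopf.dlin (tanOf x)) 0
      (fun S _ _ _ hf hS s => by rw [zero_smul]; exact LinearMap.congr_fun (hx S hf hS) s) _ U rfl
    replace hN : ((actF (LieHopf.dlin (tanOf x)) : Module.End k U)) ^ N = 0 := by
      refine (congrArg (fun f : Module.End k U => f ^ N) (LinearMap.ext fun u => ?_)).trans hN
      rw [zero_smul]; exact (sub_zero _).symm
    have key : ∀ (n : ℕ) (u : U), (x.1 ^ n) (u : A) = (((actF (LieHopf.dlin (tanOf x)) : U →ₗ[k] U) ^ n) u : U) :=
      fun n => by
        induction n with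
        | zero => intro u; simp
        | succ n ih =>
          intro u
          rw [pow_succ', pow_succ', Module.End.mul_apply, Module.End.mul_apply, ih, ← lieOp_tanOf x]
          exact (comodHom_actF hi _ _).symm
    exact ⟨N, fun n hn => by
      rw [show a = ((⟨a, ha⟩ : U) : A) from rfl, key, pow_eq_zero_of_le hn hN, LinearMap.zero_apply, ZeroMemClass.coe_zero]⟩
  choose N hN using hnilA
  let α : ℕ → A → k := fun n a => ((Nat.factorial n : k))⁻¹ * Coalgebra.counit (R := k) ((x.1 ^ n) a)
  let E : A → k[X] := fun a => ∑ i ∈ Finset.range (N a), monomial i (α i a)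
  have hE : ∀ a n, (E a).coeff n = α n a := by
    intro a n
    simp only [E, finsetSum_coeff, coeff_monomial, Finset.sum_ite_eq', Finset.mem_range]
    split
    · rfl
    · rw [show α n a = 0 by simp [α, hN a n (by omega)]]
  have hleib : ∀ (n : ℕ) (a b : A), (x.1 ^ n) (a * b) =
      ∑ ij ∈ Finset.HasAntidiagonal.antidiagonal n, (n.choose ij.1) • ((x.1 ^ ij.1) a * (x.1 ^ ij.2) b) := by
    intro n
    induction n with
    | zero => intro a b; simp
    | succ n ih =>
      intro a b
      rw [Finset.sum_antidiagonal_choose_succ_nsmul (fun i j => (x.1 ^ i) a * (x.1 ^ j) b), pow_succ',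
        Module.End.mul_apply, ih, map_sum]
      rw [← Finset.sum_add_distrib]
      refine Finset.sum_congr rfl fun ij hij => ?_
      rw [← Nat.choose_symm_of_eq_add (Finset.HasAntidiagonal.mem_antidiagonal.mp hij).symm, map_nsmul, val_mul, ← smul_add,
        pow_succ' x.1 ij.2, pow_succ' x.1 ij.1, Module.End.mul_apply, Module.End.mul_apply]
      congr 1
      ring
  let Ehom : A →ₐ[k] k[X] :=
    { toFun := E
      map_one' := by
        ext n
        rw [hE, coeff_one]
        rcases n with _ | n
        · simp [α]
        · simp [α, pow_succ, Module.End.mul_apply, val_one]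
      map_mul' := fun a b => by
        ext n
        rw [hE, coeff_mul]
        simp only [hE, α, hleib, map_sum, map_nsmul, Bialgebra.counit_mul, Finset.mul_sum]
        refine Finset.sum_congr rfl fun ij hij => ?_
        rw [nsmul_eq_mul]
        obtain rfl := Finset.HasAntidiagonal.mem_antidiagonal.mp hij
        rw [Nat.cast_choose k (Nat.le_add_right ij.1 ij.2), Nat.add_sub_cancel_left]
        have := (Nat.cast_ne_zero (R := k)).mpr (Nat.factorial_ne_zero (ij.1 + ij.2))
        field_simp
      map_zero' := by ext n; simp [hE, α]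
      map_add' := fun a b => by ext n; simp only [hE, α, coeff_add, map_add]; ring
      commutes' := fun r => by
        ext n
        rw [hE, Polynomial.algebraMap_eq, coeff_C]
        rcases n with _ | n
        · simp [α]
        · simp [α, pow_succ, Module.End.mul_apply, Algebra.algebraMap_eq_smul_one, val_one] }
  let g : Pt k A k := toConv ((Polynomial.aeval (1 : k)).comp Ehom)
  have hg : g ∈ simpleKer k A := by
    intro S _ _ _ hf hS
    refine LinearMap.ext fun s => ?_
    rw [AlgGrpQ.rho_apply, Module.End.one_apply]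
    refine sub_eq_zero.mp ((Module.forall_dual_apply_eq_zero_iff k _).mp fun f => ?_)
    rw [map_sub, apply_actF, sub_eq_zero]
    show Polynomial.aeval (1 : k) (E (coefFun (C := A) f s)) = f s
    have : E (coefFun (C := A) f s) = C (f s) := by
      ext n
      rw [hE, coeff_C]
      rcases n with _ | n
      · simp [α, counit_coefFun]
      · have h0 : (x.1 ^ (n + 1)) (coefFun (C := A) f s) = 0 := by
          rw [pow_succ, Module.End.mul_apply, ← coefFun_repHom, hx S hf hS, LinearMap.zero_apply, map_zero, map_zero]
        simp [α, h0]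
    rw [this, aeval_C, Algebra.algebraMap_self_apply]
  rw [simpleKer_eq_bot k A hred, Subgroup.mem_bot] at hg
  have heval : ∀ a : A, (E a).eval 1 = Coalgebra.counit (R := k) a := fun a => by
    have h := DFunLike.congr_fun (congrArg WithConv.ofConv hg) a
    simp only [g, ofConv_toConv, AlgHom.comp_apply] at h
    rw [← Polynomial.coe_aeval_eq_eval]
    refine h.trans ?_
    simp
  refine Subtype.ext (LinearMap.ext fun a => ?_)
  by_contra hne
  have hex : ∃ m, (x.1 ^ (m + 2)) a = 0 := ⟨N a, hN a _ (by omega)⟩
  obtain ⟨m, hm, hm'⟩ : ∃ m, (x.1 ^ (m + 2)) a = 0 ∧ (x.1 ^ (m + 1)) a ≠ 0 := by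
    refine ⟨Nat.find hex, Nat.find_spec hex, fun h => ?_⟩
    rcases hf : Nat.find hex with _ | j
    · rw [hf, pow_one] at h; exact hne (by simpa using h)
    · rw [hf] at h; exact Nat.find_min hex (m := j) (by omega) h
  refine hm' ((Module.forall_dual_apply_eq_zero_iff k _).mp fun ψ => ?_)
  let b := coefFun (C := A) ψ ((x.1 ^ m) a)
  have hpow : ∀ n, (x.1 ^ n) b = coefFun (C := A) ψ ((x.1 ^ (n + m)) a) := fun n => by
    have h := coefFun_repHom_pow (V := A) x ψ n ((x.1 ^ m) a)
    have hr : repHom A x = x.1 := lieOp_tanOf x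
    rw [hr] at h
    rw [pow_add, Module.End.mul_apply]
    exact h.symm
  have hEb : E b = C (Coalgebra.counit (R := k) b) + monomial 1 (α 1 b) := by
    ext n
    rw [hE, coeff_add, coeff_C, coeff_monomial]
    rcases n with _ | _ | n
    · simp [α]
    · simp
    · have : (x.1 ^ (n + 2)) b = 0 := by
        rw [hpow, show n + 2 + m = n + (m + 2) by omega, pow_add, Module.End.mul_apply, hm, map_zero, map_zero]
      simp [α, this]
  have h1 := heval b
  rw [hEb, eval_add, eval_C, eval_monomial, one_pow, mul_one, add_eq_left] at h1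
  simp only [α, Nat.factorial_one, Nat.cast_one, inv_one, one_mul, hpow, counit_coefFun, add_comm 1 m] at h1
  exact h1

/-- A tangent vector acting by a scalar on each simple comodule kills every vector killed by its square. -/
theorem eq_zero_of_sq (hred : RedRk29.NoUnipotentNormal k A) (x : lieSub k A)
    (hx : ∀ (S : Type u) [AddCommGroup S] [Module k S] [HopfRep.Comod k A S], Module.Finite k S →
      HopfRep.IsSimpleComod k A S → ∃ c : k, ∀ s, repHom S x s = c • s)
    {V : Type u} [AddCommGroup V] [Module k V] [HopfRep.Comod k A V] {v : V} (hv : repHom V x (repHom V x v) = 0) :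
    repHom V x v = 0 := by
  classical
  let GE : k → Submodule k A := fun l => Module.End.maxGenEigenspace (x.1 : Module.End k A) l
  have hmul : ∀ (n : ℕ) {l m : k} (a b : A) (p q : ℕ), p + q = n → ((x.1 - l • 1) ^ p) a = 0 →
      ((x.1 - m • 1) ^ q) b = 0 → ((x.1 - (l + m) • 1) ^ n) (a * b) = 0 := by
    intro n
    induction n with
    | zero =>
      intro l m a b p q hpq ha _
      obtain rfl : p = 0 := by omega
      simp only [pow_zero, Module.End.one_apply] at ha ⊢
      rw [ha, zero_mul]
    | succ n ih =>
      intro l m a b p q hpq ha hb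
      rcases p with _ | p
      · simp only [pow_zero, Module.End.one_apply] at ha; simp [ha]
      rcases q with _ | q
      · simp only [pow_zero, Module.End.one_apply] at hb; simp [hb]
      have hstep : (x.1 - (l + m) • 1) (a * b) = a * (x.1 - m • 1) b + (x.1 - l • 1) a * b := by
        show x.1 (a * b) - (l + m) • (a * b) = a * (x.1 b - m • b) + (x.1 a - l • a) * b
        rw [val_mul, Algebra.smul_def, Algebra.smul_def, Algebra.smul_def, map_add]
        ring
      rw [pow_succ, Module.End.mul_apply, hstep, map_add,
        ih a _ (p + 1) q (by omega) ha (by rwa [← Module.End.mul_apply, ← pow_succ]),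
        ih _ b p (q + 1) (by omega) (by rwa [← Module.End.mul_apply, ← pow_succ]) hb, add_zero]
  have htop : ⨆ l, GE l = ⊤ := by
    refine eq_top_iff.mpr fun a _ => ?_
    obtain ⟨U, hUf, ha, hU⟩ := exists_finite_subcomod_mem (k := k) (C := A) a
    have hst : ∀ u ∈ U, x.1 u ∈ U := fun u hu => by
      rw [← lieOp_tanOf x]; exact subcomod_actF_mem hU _ hu
    let f : Module.End k U := (x.1 : Module.End k A).restrict hst
    have h1 : ∀ l, (Module.End.maxGenEigenspace f l).map U.subtype ≤ GE l := by
      rintro l _ ⟨u, hu, rfl⟩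
      obtain ⟨n, hn⟩ := (Module.End.mem_maxGenEigenspace _ _ _).mp hu
      refine (Module.End.mem_maxGenEigenspace _ _ _).mpr ⟨n, ?_⟩
      have key : ∀ (j : ℕ) (u : U), ((x.1 - l • 1) ^ j) (u : A) = (((f - l • 1) ^ j) u : U) := fun j => by
        induction j with
        | zero => intro u; simp
        | succ j ih =>
          intro u
          rw [pow_succ', pow_succ', Module.End.mul_apply, Module.End.mul_apply, ih]
          rfl
      rw [Submodule.subtype_apply, key, hn, ZeroMemClass.coe_zero]
    have := Module.End.iSup_maxGenEigenspace_eq_top f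
    have h2 : U ≤ ⨆ l, GE l := by
      rw [← Submodule.map_subtype_top U, ← this, Submodule.map_iSup]
      exact iSup_mono h1
    exact h2 ha
  have hint : DirectSum.IsInternal GE :=
    DirectSum.isInternal_submodule_of_iSupIndep_of_iSup_eq_top
      (Module.End.independent_maxGenEigenspace (x.1 : Module.End k A)) htop
  let e := LinearEquiv.ofBijective (DirectSum.coeLinearMap GE) hint
  let δ : A →ₗ[k] k := (DirectSum.toModule k k k fun l => l • ((Coalgebra.counit (R := k) (A := A)) ∘ₗ (GE l).subtype))
    ∘ₗ e.symm.toLinearMap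
  have hδ : ∀ {l : k} {a : A}, a ∈ GE l → δ a = l * Coalgebra.counit (R := k) a := fun {l a} ha => by
    have : e.symm a = DirectSum.lof k k (fun l => GE l) l ⟨a, ha⟩ := by
      rw [LinearEquiv.symm_apply_eq]
      exact (DirectSum.coeLinearMap_of GE l ⟨a, ha⟩).symm
    simp [δ, this]
  have hder : ∀ a b, δ (a * b) = Bialgebra.counitAlgHom k A a * δ b + Bialgebra.counitAlgHom k A b * δ a := by
    intro a b
    simp only [Bialgebra.counitAlgHom_apply]
    induction htop.ge (Submodule.mem_top (x := a)) using Submodule.iSup_induction' with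
    | mem l a ha =>
      induction htop.ge (Submodule.mem_top (x := b)) using Submodule.iSup_induction' with
      | mem m b hb =>
        obtain ⟨p, hp⟩ := (Module.End.mem_maxGenEigenspace _ _ _).mp ha
        obtain ⟨q, hq⟩ := (Module.End.mem_maxGenEigenspace _ _ _).mp hb
        rw [hδ ((Module.End.mem_maxGenEigenspace _ (l + m) (a * b)).mpr ⟨_, hmul _ a b p q rfl hp hq⟩), hδ ha, hδ hb,
          Bialgebra.counit_mul]
        ring
      | zero => simp
      | add p q _ _ hp hq => simp only [mul_add, map_add, hp, hq]; ring
    | zero => simp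
    | add p q _ _ hp hq => simp only [add_mul, map_add, hp, hq]; ring
  obtain ⟨y, hy⟩ := exists_of_tan (mkTan δ hder)
  have hyV : ∀ (W : Type u) [AddCommGroup W] [Module k W] [HopfRep.Comod k A W] (w : W),
      repHom W y w = actF δ w := fun W _ _ _ w => by
    show actF (LieHopf.dlin (tanOf y)) w = _
    rw [hy, dlin_mkTan]
  have hxy : x - y = 0 := by
    refine eq_zero_of_simple hred _ fun S _ _ _ hf hS => ?_
    obtain ⟨c, hc⟩ := hx S hf hS
    refine LinearMap.ext fun s => ?_
    rw [map_sub, LinearMap.sub_apply, LinearMap.zero_apply, hc, hyV, sub_eq_zero]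
    refine sub_eq_zero.mp ((Module.forall_dual_apply_eq_zero_iff k _).mp fun f => ?_)
    have hmem : coefFun (C := A) f s ∈ GE c := by
      refine (Module.End.mem_maxGenEigenspace _ _ _).mpr ⟨1, ?_⟩
      rw [pow_one, LinearMap.sub_apply, LinearMap.smul_apply, Module.End.one_apply, ← coefFun_repHom, hc, map_smul,
        sub_self]
    rw [map_sub, apply_actF, hδ hmem, counit_coefFun, map_smul, smul_eq_mul, sub_self]
  rw [sub_eq_zero] at hxy
  refine (Module.forall_dual_apply_eq_zero_iff k _).mp fun f => ?_
  have hmem : coefFun (C := A) f v ∈ GE 0 := by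
    refine (Module.End.mem_maxGenEigenspace _ _ _).mpr ⟨2, ?_⟩
    rw [zero_smul, sub_zero, ← coefFun_repHom_pow, pow_two, Module.End.mul_apply, hv, map_zero]
  rw [hxy, hyV, apply_actF, hδ hmem, zero_mul]

end Groth.Agent.LinRed66
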