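import Groth.Agent.LinRed66.Casimir
import Mathlib.Algebra.Lie.Quotient
import Mathlib.Algebra.Lie.Killing
import Mathlib.Algebra.Lie.IdealOperations

/-!
Cocycles with values in irreducible modules of a Lie algebra with central radical.
-/

set_option linter.style.haveILetI false

universe u v w

open LieModule LieAlgebra Module

attribute [local instance 100] LieRing.ofAssociativeRing

namespace Groth.Agent.LinRed66

variable {k : Type u} [Field k] {L : Type v} [LieRing L] [LieAlgebra k L] [Module.Finite k L]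

/-- The quotient by the radical has trivial radical. -/
theorem hasTrivialRadical_quotient : HasTrivialRadical k (L ⧸ radical k L) := by
  let π : L →ₗ⁅k⁆ (L ⧸ radical k L) :=
    { (LieSubmodule.Quotient.mk' (radical k L)).toLinearMap with map_lie' := fun {x y} => rfl }
  have hπ : Function.Surjective π := LieSubmodule.Quotient.surjective_mk' _
  refine hasTrivialRadical_of_no_solvable_ideals fun I hI => ?_
  obtain ⟨n, hn⟩ := IsSolvable.solvable k I
  rw [LieIdeal.derivedSeries_eq_bot_iff] at hn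
  let J := LieIdeal.comap π I
  have hmap : ∀ m, LieIdeal.map π (derivedSeriesOfIdeal k L m J) ≤ derivedSeriesOfIdeal k _ m I := by
    intro m
    induction m with
    | zero => simp only [derivedSeriesOfIdeal_zero]; exact LieIdeal.map_comap_le
    | succ m ih =>
      simp only [derivedSeriesOfIdeal_succ]
      exact (LieIdeal.map_bracket_le π).trans (LieSubmodule.mono_lie ih ih)
  have hle : derivedSeriesOfIdeal k L n J ≤ radical k L := fun x hx => by
    have h := hmap n (LieIdeal.mem_map hx)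
    rw [hn, LieSubmodule.mem_bot] at h
    exact (LieSubmodule.Quotient.mk_eq_zero _).mp h
  obtain ⟨m, hm⟩ := IsSolvable.solvable k (radical k L)
  rw [LieIdeal.derivedSeries_eq_bot_iff] at hm
  have hJ : IsSolvable J := by
    refine IsSolvable.mk (R := k) (k := m + n) ((LieIdeal.derivedSeries_eq_bot_iff J (m + n)).mpr ?_)
    rw [derivedSeriesOfIdeal_add]
    exact le_bot_iff.mp ((derivedSeriesOfIdeal_mono hle m).trans hm.le)
  have hJle := (LieIdeal.solvable_iff_le_radical k L J).mp hJ
  refine (LieSubmodule.eq_bot_iff _).mpr fun y hy => ?_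
  obtain ⟨x, rfl⟩ := hπ y
  exact (LieSubmodule.Quotient.mk_eq_zero _).mpr (hJle (show x ∈ J from hy))

variable [CharZero k]

/-- In a semisimple algebra every ideal is perfect. -/
theorem lie_ideal_self [HasTrivialRadical k L] (I : LieIdeal k L) : ⁅I, I⁆ = I := by
  refine le_antisymm (LieSubmodule.lie_le_left _ _) fun x hx => ?_
  haveI := HasTrivialRadical.instIsKilling k L
  have hc := LieIdeal.isCompl_killingCompl (⁅I, I⁆ : LieIdeal k L)
  have hx' : x ∈ (⁅I, I⁆ : LieIdeal k L) ⊔ (⁅I, I⁆ : LieIdeal k L).killingCompl := by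
    rw [hc.sup_eq_top]; exact LieSubmodule.mem_top x
  obtain ⟨a, ha, b, hb, rfl⟩ := (LieSubmodule.mem_sup _ _ _).mp hx'
  have hbI : b ∈ I := by
    have := sub_mem hx (LieSubmodule.lie_le_left I I ha)
    rwa [add_sub_cancel_left] at this
  let K : LieIdeal k L := I ⊓ (⁅I, I⁆ : LieIdeal k L).killingCompl
  haveI : IsLieAbelian K := by
    rw [LieSubmodule.lie_abelian_iff_lie_self_eq_bot, eq_bot_iff, ← hc.inf_eq_bot]
    exact le_inf (LieSubmodule.mono_lie inf_le_left inf_le_left)
      ((LieSubmodule.lie_le_left _ _).trans inf_le_right)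
  have hK : K = ⊥ := IsKilling.ideal_eq_bot_of_isLieAbelian K
  have : b ∈ K := ⟨hbI, hb⟩
  rw [hK, LieSubmodule.mem_bot] at this
  rwa [this, add_zero]

/-- An ideal is its derived ideal up to the radical. -/
theorem le_lie_sup_radical (J : LieIdeal k L) : J ≤ ⁅J, J⁆ ⊔ radical k L := by
  haveI := hasTrivialRadical_quotient (k := k) (L := L)
  let π : L →ₗ⁅k⁆ (L ⧸ radical k L) :=
    { (LieSubmodule.Quotient.mk' (radical k L)).toLinearMap with map_lie' := fun {x y} => rfl }
  have hπ : Function.Surjective π := LieSubmodule.Quotient.surjective_mk' _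
  intro x hx
  have h : π x ∈ LieIdeal.map π J := LieIdeal.mem_map hx
  rw [← lie_ideal_self (LieIdeal.map π J), ← LieIdeal.map_bracket_eq π hπ] at h
  obtain ⟨⟨y, hy⟩, hyx⟩ := LieIdeal.mem_map_of_surjective hπ h
  have h' : x - y ∈ radical k L := (LieSubmodule.Quotient.mk_eq_zero _).mp (by
    show π (x - y) = 0
    rw [map_sub, hyx, sub_self])
  exact (LieSubmodule.mem_sup _ _ _).mpr ⟨y, hy, x - y, h', add_sub_cancel y x⟩

variable [IsAlgClosed k] {S : Type w} [AddCommGroup S] [Module k S] [LieRingModule L S] [LieModule k L S]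
  [Module.Finite k S]

/-- Cocycles with values in an irreducible module are coboundaries when the radical is central and a cocycle
vanishes on the central elements acting trivially. -/
theorem exists_eq_lie (hR : radical k L ≤ center k L) [IsIrreducible k L S] (c : L →ₗ[k] S)
    (hc : ∀ x y, c ⁅x, y⁆ = ⁅x, c y⁆ - ⁅y, c x⁆)
    (hz : ∀ z ∈ radical k L, (∀ m : S, ⁅z, m⁆ = 0) → c z = 0) : ∃ s : S, ∀ x, c x = ⁅x, s⁆ := by
  haveI := nontrivial_of_isIrreducible k L S
  by_cases hA : ∀ z ∈ radical k L, ∀ m : S, ⁅z, m⁆ = 0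
  swap
  · push Not at hA
    obtain ⟨z, hzR, m₀, hm₀⟩ := hA
    have hzc : ∀ x : L, ⁅x, z⁆ = 0 := (mem_maxTrivSubmodule k L L z).mp (hR hzR)
    obtain ⟨μ, hμ⟩ := Module.End.exists_eigenvalue (toEnd k L S z)
    let T : LieSubmodule k L S :=
      { (toEnd k L S z).eigenspace μ with
        lie_mem := fun {x m} hm => Module.End.mem_eigenspace_iff.mpr (by
          have hm' : ⁅z, m⁆ = μ • m := Module.End.mem_eigenspace_iff.mp hm
          rw [toEnd_apply_apply, leibniz_lie, ← lie_skew z x, hzc, neg_zero, zero_lie, zero_add, hm', lie_smul]) }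
    haveI : Nontrivial T := by
      obtain ⟨m, hm⟩ := hμ.exists_hasEigenvector
      exact nontrivial_of_ne (⟨m, hm.1⟩ : T) 0 fun h => hm.2 (congrArg Subtype.val h :)
    have hall : ∀ m, ⁅z, m⁆ = μ • m := fun m =>
      Module.End.mem_eigenspace_iff.mp (show m ∈ T by rw [T.eq_top_of_isIrreducible]; exact LieSubmodule.mem_top m)
    have hμ0 : μ ≠ 0 := fun h => hm₀ (by rw [hall, h, zero_smul])
    refine ⟨μ⁻¹ • c z, fun x => ?_⟩
    have h := hc x z
    rw [hzc, map_zero, hall, eq_comm, sub_eq_zero] at h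
    rw [lie_smul, h, smul_smul, inv_mul_cancel₀ hμ0, one_smul]
  · let J : LieIdeal k L := (toEnd k L S).ker
    have hJ : ∀ {x}, x ∈ J ↔ ∀ m : S, ⁅x, m⁆ = 0 := fun {x} =>
      ⟨fun h m => LinearMap.congr_fun (LieHom.mem_ker.mp h) m, fun h => LieHom.mem_ker.mpr (LinearMap.ext h)⟩
    let J₀ : LieIdeal k L :=
      { J.toSubmodule ⊓ LinearMap.ker c with
        lie_mem := fun {x m} hm => by
          refine ⟨J.lie_mem hm.1, ?_⟩
          show c ⁅x, m⁆ = 0
          rw [hc, show c m = 0 from hm.2, lie_zero, hJ.mp hm.1, sub_zero] }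
    have hle : J ≤ J₀ := by
      refine (le_lie_sup_radical J).trans (sup_le ?_ fun z hzR => ⟨hJ.mpr (hA z hzR), hz z hzR (hA z hzR)⟩)
      refine (LieSubmodule.lie_le_iff _ _ _).mpr fun x hx y hy => ⟨J.lie_mem hy, ?_⟩
      show c ⁅x, y⁆ = 0
      rw [hc, hJ.mp hx, hJ.mp hy, sub_zero]
    have hcJ : ∀ x, (toEnd k L S) x = 0 → c x = 0 := fun x hx => (hle (LieHom.mem_ker.mpr hx)).2
    let L' := (toEnd k L S).range
    let φ : L →ₗ[k] L' := LinearMap.codRestrict L'.toSubmodule (toEnd k L S).toLinearMap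
      (fun x => LinearMap.mem_range.mpr ⟨x, rfl⟩ : ∀ x : L, (toEnd k L S) x ∈ L')
    have hφ : Function.Surjective φ := fun ⟨f, hf⟩ => by
      obtain ⟨x, rfl⟩ := hf
      exact ⟨x, rfl⟩
    obtain ⟨g, hg⟩ := φ.exists_rightInverse_of_surjective (LinearMap.range_eq_top.mpr hφ)
    have hg' : ∀ x, c x = c (g (φ x)) := fun x => by
      rw [← sub_eq_zero, ← map_sub]
      refine hcJ _ ?_
      have := congrArg Subtype.val (LinearMap.congr_fun hg (φ x))
      rw [map_sub, sub_eq_zero]
      exact this.symm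
    haveI : Module.Finite k L' := Module.Finite.of_surjective φ hφ
    rcases subsingleton_or_nontrivial L' with hs | hs
    · refine ⟨0, fun x => ?_⟩
      rw [lie_zero, hg', show φ x = 0 from Subsingleton.elim _ _, map_zero, map_zero]
    · haveI : IsIrreducible k L' S := by
        refine IsIrreducible.mk fun N hN => ?_
        let N₀ : LieSubmodule k L S := { N.toSubmodule with lie_mem := fun {x m} hm => N.lie_mem (x := φ x) hm }
        haveI : Nontrivial N₀ := by
          obtain ⟨m, hm, hm0⟩ := (Submodule.ne_bot_iff _).mp (mt (LieSubmodule.toSubmodule_eq_bot _).mp hN)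
          exact nontrivial_of_ne (⟨m, hm⟩ : N₀) 0 fun h => hm0 (congrArg Subtype.val h :)
        have := LieSubmodule.eq_top_of_isIrreducible k L S N₀
        exact SetLike.ext fun m => ⟨fun _ => LieSubmodule.mem_top m, fun _ => (this ▸ LieSubmodule.mem_top m : m ∈ N₀)⟩
      haveI : IsFaithful k L' S := ⟨fun a b h => Subtype.ext (LinearMap.ext fun m => LinearMap.congr_fun h m)⟩
      obtain ⟨s, hs⟩ := exists_eq_lie_of_cocycle (c ∘ₗ g) (fun a b => by
        obtain ⟨x, rfl⟩ := hφ a
        obtain ⟨y, rfl⟩ := hφ b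
        show c (g ⁅φ x, φ y⁆) = ⁅φ x, c (g (φ y))⁆ - ⁅φ y, c (g (φ x))⁆
        rw [show ⁅φ x, φ y⁆ = φ ⁅x, y⁆ from Subtype.ext (LieHom.map_lie (toEnd k L S) x y).symm, ← hg', ← hg', ← hg']
        exact hc x y)
      exact ⟨s, fun x => by rw [hg']; exact hs (φ x)⟩

end Groth.Agent.LinRed66
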