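import Groth.Agent.LinRed66.Faithful
import Groth.Agent.LinRed66.Whitehead
import Groth.Agent.ComodLib.Criterion

/-!
Connected groups without unipotent normal subgroups are linearly reductive in characteristic zero.
-/

set_option linter.style.haveILetI false
set_option linter.unusedSectionVars false

universe u

open TensorProduct WithConv LieModule LieAlgebra

attribute [local instance 100] LieRing.ofAssociativeRing

namespace Groth.Agent.LinRed66

open Groth.Agent.ComodLib

variable {k : Type u} [Field k] [IsAlgClosed k] [CharZero k]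
  {A : Type u} [CommRing A] [IsDomain A] [HopfAlgebra k A] [Algebra.FiniteType k A]

/-- A comodule as a module over the invariant derivations. -/
@[reducible] noncomputable def lieRingModule (V : Type u) [AddCommGroup V] [Module k V] [HopfRep.Comod k A V] :
    LieRingModule (lieSub k A) V :=
  LieRingModule.compLieHom V (repHom V)

section Simple

variable {S : Type u} [AddCommGroup S] [Module k S] [HopfRep.Comod k A S] [Module.Finite k S]

/-- The radical acts by scalars on a simple comodule. -/
theorem exists_scalar (hS : HopfRep.IsSimpleComod k A S) {x : lieSub k A} (hx : x ∈ radical k (lieSub k A)) :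
    ∃ c : k, ∀ s : S, repHom S x s = c • s := by
  letI : LieRingModule (lieSub k A) S := lieRingModule S
  letI : LieModule k (lieSub k A) S := LieModule.compLieHom S (repHom S)
  haveI : Nontrivial S := hS.1
  obtain ⟨χ, hχ⟩ := exists_nontrivial_weightSpace_of_isSolvable k (radical k (lieSub k A)) S
  let N : LieSubmodule k (lieSub k A) S := weightSpaceOfIsLieTower k S χ
  haveI : Nontrivial N := hχ
  have hN : N.toSubmodule = ⊤ := by
    rcases hS.2 N.toSubmodule (isSubcomod_of_stable fun y u hu => N.lie_mem (x := y) hu) with h | h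
    · exfalso
      obtain ⟨u, hu⟩ := exists_ne (0 : N)
      exact hu (Subtype.ext ((Submodule.mem_bot k).mp (h ▸ u.2 : (u : S) ∈ (⊥ : Submodule k S))))
    · exact h
  refine ⟨χ ⟨x, hx⟩, fun s => ?_⟩
  have hs : s ∈ N := by
    show s ∈ N.toSubmodule
    rw [hN]; exact Submodule.mem_top
  exact (LieModule.mem_weightSpace χ s).mp hs ⟨x, hx⟩

end Simple

/-- The radical of the Lie algebra is central. -/
theorem radical_le_center (hred : RedRk29.NoUnipotentNormal k A) :
    radical k (lieSub k A) ≤ LieAlgebra.center k (lieSub k A) := by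
  intro x hx
  rw [LieAlgebra.center, mem_maxTrivSubmodule]
  intro y
  refine eq_zero_of_simple hred _ fun S _ _ _ hf hS => ?_
  haveI := hf
  obtain ⟨c, hc⟩ := exists_scalar (S := S) hS hx
  rw [LieHom.map_lie]
  refine LinearMap.ext fun s => ?_
  show repHom S y (repHom S x s) - repHom S x (repHom S y s) = 0
  rw [hc, hc, map_smul, sub_self]

theorem exists_killed (hred : RedRk29.NoUnipotentNormal k A) :
    ∀ (n : ℕ) (V : Type u) [AddCommGroup V] [Module k V] [HopfRep.Comod k A V] [Module.Finite k V],
      Module.finrank k V = n → ∀ π : V →ₗ[k] k, Function.Surjective π → (∀ (x : lieSub k A) (v : V), π (repHom V x v) = 0) →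
        ∃ v : V, π v ≠ 0 ∧ ∀ x : lieSub k A, repHom V x v = 0 := by
  intro n
  induction n using Nat.strong_induction_on with
  | _ n ih =>
    intro V _ _ cV _ hn π hπs hπ
    by_cases hker : LinearMap.ker π = ⊥
    · obtain ⟨v, hv⟩ := hπs 1
      refine ⟨v, by rw [hv]; exact one_ne_zero, fun x => LinearMap.ker_eq_bot.mp hker ?_⟩
      rw [hπ, map_zero]
    have hkc : HopfRep.IsSubcomod (k := k) (A := A) (LinearMap.ker π) :=
      isSubcomod_of_stable fun x u _ => LinearMap.mem_ker.mpr (hπ x u)
    obtain ⟨S, hSk, hSf, hS, hS0, hmin⟩ := exists_simple_le (k := k) (C := A) hkc hker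
    haveI := hSf
    letI cS : HopfRep.Comod k A S := ComodSub.Comod.restr cV S hS
    have hi : Hoch.IsComodHom A S.subtype := ComodSub.isComodHom_subtype cV S hS
    have hsimple : HopfRep.IsSimpleComod k A S := by
      refine ⟨(Submodule.nontrivial_iff_ne_bot).mpr hS0, fun U hU => ?_⟩
      rcases hmin (U.map S.subtype) (isSubcomod_map hi hU) (Submodule.map_subtype_le S U) with h' | h'
      · left
        exact eq_bot_iff.mpr fun u hu => by simpa using h'.le (Submodule.mem_map_of_mem (f := S.subtype) hu)
      · right
        exact Submodule.map_injective_of_injective S.injective_subtype (h'.trans (Submodule.map_subtype_top S).symm)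
    letI cQ : HopfRep.Comod k A (V ⧸ S) := ComodSub.Comod.quot cV S hS
    have hq : Hoch.IsComodHom A S.mkQ := ComodSub.isComodHom_mkQ cV S hS
    have hrepQ : ∀ x v, repHom (V ⧸ S) x (S.mkQ v) = S.mkQ (repHom V x v) := fun x v =>
      (comodHom_actF hq _ v).symm
    have hrepS : ∀ x (s : S), (repHom S x s : V) = repHom V x (s : V) := fun x s => comodHom_actF hi _ s
    have hlt : Module.finrank k (V ⧸ S) < n := by
      rw [← hn, ← S.finrank_quotient_add_finrank]
      haveI : Nontrivial S := hsimple.1
      have := Module.finrank_pos (R := k) (M := S)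
      omega
    let π' : V ⧸ S →ₗ[k] k := S.liftQ π hSk
    obtain ⟨q, hq0, hqk⟩ := ih _ hlt (V ⧸ S) rfl π' (fun c => (hπs c).imp' S.mkQ fun v hv => hv)
      (fun x v => by obtain ⟨w, rfl⟩ := S.mkQ_surjective v; rw [hrepQ]; exact hπ x w)
    obtain ⟨v₀, rfl⟩ := S.mkQ_surjective q
    have hc0 : ∀ x, repHom V x v₀ ∈ S := fun x => by
      rw [← Submodule.Quotient.mk_eq_zero, ← Submodule.mkQ_apply, ← hrepQ, hqk]
    letI : LieRingModule (lieSub k A) S := lieRingModule S
    letI : LieModule k (lieSub k A) S := LieModule.compLieHom S (repHom S)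
    haveI : IsIrreducible k (lieSub k A) S := by
      haveI : Nontrivial S := hsimple.1
      refine IsIrreducible.mk fun N hN => ?_
      rcases hsimple.2 N.toSubmodule (isSubcomod_of_stable fun y u hu => N.lie_mem (x := y) hu) with h | h
      · exact absurd ((LieSubmodule.toSubmodule_eq_bot N).mp h) hN
      · exact (LieSubmodule.toSubmodule_eq_top N).mp h
    let c : lieSub k A →ₗ[k] S :=
      { toFun := fun x => ⟨repHom V x v₀, hc0 x⟩
        map_add' := fun x y => Subtype.ext (by simp)
        map_smul' := fun r x => Subtype.ext (by simp) }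
    obtain ⟨s, hs⟩ := exists_eq_lie (radical_le_center hred) c (fun x y => Subtype.ext (by
      show repHom V ⁅x, y⁆ v₀ = (repHom S x (c y) : V) - (repHom S y (c x) : V)
      rw [hrepS, hrepS, LieHom.map_lie]
      rfl)) (fun z hzR hz => Subtype.ext (by
      refine eq_zero_of_sq hred z (fun T _ _ _ hTf hT => ?_) ?_
      · haveI := hTf
        exact exists_scalar hT hzR
      · show repHom V z ((c z : S) : V) = 0
        rw [← hrepS]
        exact congrArg Subtype.val (hz (c z))))
    refine ⟨v₀ - (s : V), ?_, fun x => ?_⟩
    · rw [map_sub, LinearMap.mem_ker.mp (hSk s.2), sub_zero]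
      exact hq0
    · rw [map_sub, ← hrepS, sub_eq_zero]
      exact congrArg Subtype.val (hs x)

/-- A connected group without unipotent normal subgroups of points is linearly reductive. -/
theorem isLinearlyReductive_of_noUnipotentNormal (hred : RedRk29.NoUnipotentNormal k A) :
    HopfRep.IsLinearlyReductive k A := by
  refine isLinearlyReductive_of_hasFixedVectors fun V _ _ _ hVf π hπs hπ => ?_
  haveI := hVf
  have hπa : ∀ (φ : A →ₗ[k] k) (v : V), π (actF φ v) = φ 1 • π v := fun φ v => by
    have h := LinearMap.congr_fun hπ v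
    simp only [LinearMap.comp_apply, LinearMap.flip_apply, TensorProduct.mk_apply] at h
    rw [actF_apply, ← slice_rTensor, h, slice_tmul]
  obtain ⟨v, hv0, hv⟩ := exists_killed hred _ V rfl π hπs fun x v => by
    show π (actF (LieHopf.dlin (tanOf x)) v) = 0
    rw [hπa, LieHopf.dlin_one, zero_smul]
  exact ⟨v, mem_fixedPts_of_killed hv, hv0⟩

end Groth.Agent.LinRed66
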