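import Groth.Agent.ComodLib.LieKill
import Groth.Agent.ComodLib.Reductive
import Groth.Prelude.Def_ComodSub
import Mathlib.Algebra.Lie.OfAssociative

/-!
The Lie algebra of invariant derivations and its action on comodules, in characteristic zero.
-/

set_option linter.style.haveILetI false

universe u

open TensorProduct WithConv

attribute [local instance 100] LieRing.ofAssociativeRing

namespace Groth.Agent.LinRed66

open Groth.Agent.ComodLib

variable {k : Type u} [Field k] {A : Type u} [CommRing A] [HopfAlgebra k A]
variable {V : Type u} [AddCommGroup V] [Module k V] [HopfRep.Comod k A V]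

/-- An `ε`-derivation from its linear map. -/
def mkTan (φ : A →ₗ[k] k)
    (h : ∀ a b, φ (a * b) = Bialgebra.counitAlgHom k A a * φ b + Bialgebra.counitAlgHom k A b * φ a) :
    LieHopf.Lie k A :=
  Derivation.mk' ({ toFun := fun a => φ a, map_add' := map_add φ, map_smul' := map_smul φ } : A →ₗ[k] LieHopf.K k A)
    fun a b => h a b

@[simp] theorem dlin_mkTan (φ : A →ₗ[k] k) (h) : LieHopf.dlin (mkTan φ h) = φ := rfl

theorem dlin_add (D E : LieHopf.Lie k A) : LieHopf.dlin (D + E) = LieHopf.dlin D + LieHopf.dlin E := rfl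

theorem dlin_smul (r : k) (D : LieHopf.Lie k A) : LieHopf.dlin (r • D) = r • LieHopf.dlin D := rfl

theorem dlin_injective {D E : LieHopf.Lie k A} (h : LieHopf.dlin D = LieHopf.dlin E) : D = E :=
  Derivation.ext fun a => LinearMap.congr_fun h a

theorem counit_actF (φ : A →ₗ[k] k) (a : A) : Coalgebra.counit (R := k) (actF (C := A) φ a) = φ a := by
  have h : coefFun (C := A) (Coalgebra.counit (R := k) (A := A)) (actF (C := A) φ a) = actF (C := A) φ a := by
    rw [show (Coalgebra.counit (R := k) (A := A)) = Coalgebra.counit ∘ₗ LinearMap.id from rfl,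
      coefFun_counit_comp (h := LinearMap.id) (by unfold Hoch.IsComodHom; ext x; simp)]
    rfl
  have key : ∀ z : A ⊗[k] A, Coalgebra.counit (R := k) (slice φ z) =
      φ (TensorProduct.lid k A ((Coalgebra.counit (R := k)).rTensor A z)) := fun z => by
    induction z using TensorProduct.induction_on with
    | zero => simp
    | tmul p q => simp [mul_comm]
    | add p q hp hq => simp only [map_add, hp, hq]
  rw [actF_apply, key, show HopfRep.Comod.coact (k := k) (A := A) a = Coalgebra.comul (R := k) a from rfl,
    Coalgebra.rTensor_counit_comul]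
  simp

/-- The tangent space as a linear family of operators on a comodule. -/
noncomputable def tanAct (V : Type u) [AddCommGroup V] [Module k V] [HopfRep.Comod k A V] :
    LieHopf.Lie k A →ₗ[k] Module.End k V where
  toFun D := actF (LieHopf.dlin D)
  map_add' D E := by rw [dlin_add, actF_add]
  map_smul' r D := by rw [dlin_smul, actF_smul]; rfl

theorem exists_bracket (D E : LieHopf.Lie k A) : ∃ F : LieHopf.Lie k A, ∀ (W : Type u) [AddCommGroup W] [Module k W]
    [HopfRep.Comod k A W] (w : W), actF (LieHopf.dlin F) w =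
      actF (LieHopf.dlin D) (actF (LieHopf.dlin E) w) - actF (LieHopf.dlin E) (actF (LieHopf.dlin D) w) := by
  let φ : A →ₗ[k] k := Coalgebra.counit ∘ₗ (lieOp D ∘ₗ lieOp E - lieOp E ∘ₗ lieOp D)
  have hφ : ∀ a, φ a = Coalgebra.counit (R := k) (lieOp D (lieOp E a) - lieOp E (lieOp D a)) := fun a => rfl
  have h : ∀ a b, φ (a * b) = Bialgebra.counitAlgHom k A a * φ b + Bialgebra.counitAlgHom k A b * φ a := by
    intro a b
    simp only [hφ, Bialgebra.counitAlgHom_apply, lieOp_mul, map_add, map_sub, Bialgebra.counit_mul]
    ring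
  refine ⟨mkTan φ h, fun W _ _ _ w => ?_⟩
  have hkey : φ = (toConv (LieHopf.dlin D) * toConv (LieHopf.dlin E)).ofConv -
      (toConv (LieHopf.dlin E) * toConv (LieHopf.dlin D)).ofConv := by
    ext a
    simp only [hφ, map_sub, LinearMap.sub_apply]
    have key : ∀ p q : A →ₗ[k] k, Coalgebra.counit (R := k) (actF (C := A) p (actF (C := A) q a)) =
        (toConv p * toConv q).ofConv a := fun p q => by
      rw [← counit_actF (toConv p * toConv q).ofConv a, actF_convMul]
    congr 1
    · exact key _ _
    · exact key _ _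
  rw [dlin_mkTan, hkey]
  simp only [sub_eq_add_neg, actF_add, LinearMap.add_apply]
  rw [show -(toConv (LieHopf.dlin E) * toConv (LieHopf.dlin D)).ofConv =
      (-1 : k) • (toConv (LieHopf.dlin E) * toConv (LieHopf.dlin D)).ofConv from (neg_one_smul _ _).symm,
    actF_smul, LinearMap.smul_apply, neg_one_smul, actF_convMul, actF_convMul]

variable (k A) in
/-- The Lie algebra of invariant derivations, as operators on the coordinate ring. -/
noncomputable def lieSub : LieSubalgebra k (Module.End k A) :=
  { LinearMap.range (tanAct (k := k) (A := A) A) with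
    lie_mem' := by
      rintro _ _ ⟨D, rfl⟩ ⟨E, rfl⟩
      obtain ⟨F, hF⟩ := exists_bracket D E
      exact ⟨F, LinearMap.ext fun a => hF A a⟩ }

/-- The `ε`-derivation of an invariant derivation. -/
noncomputable def tanOf (x : lieSub k A) : LieHopf.Lie k A := x.2.choose

theorem lieOp_tanOf (x : lieSub k A) : lieOp (tanOf x) = x.1 := x.2.choose_spec

theorem dlin_eq_of_lieOp_eq {D E : LieHopf.Lie k A} (h : lieOp D = lieOp E) : D = E :=
  dlin_injective (LinearMap.ext fun a => by
    rw [← counit_actF (LieHopf.dlin D) a, ← counit_actF (LieHopf.dlin E) a]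
    exact congrArg _ (LinearMap.congr_fun h a))

/-- The action of invariant derivations on a comodule. -/
noncomputable def repHom (V : Type u) [AddCommGroup V] [Module k V] [HopfRep.Comod k A V] :
    lieSub k A →ₗ⁅k⁆ Module.End k V where
  toFun x := tanAct V (tanOf x)
  map_add' x y := by
    rw [← map_add]; congr 1
    refine dlin_eq_of_lieOp_eq ?_
    rw [lieOp_tanOf, show lieOp (tanOf x + tanOf y) = lieOp (tanOf x) + lieOp (tanOf y) from
      (tanAct (k := k) A).map_add _ _, lieOp_tanOf, lieOp_tanOf]
    rfl
  map_smul' r x := by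
    rw [RingHom.id_apply, ← map_smul]; congr 1
    refine dlin_eq_of_lieOp_eq ?_
    rw [lieOp_tanOf, show lieOp (r • tanOf x) = r • lieOp (tanOf x) from (tanAct (k := k) A).map_smul _ _, lieOp_tanOf]
    rfl
  map_lie' {x y} := by
    obtain ⟨F, hF⟩ := exists_bracket (tanOf x) (tanOf y)
    have hxy : tanOf ⁅x, y⁆ = F := by
      refine dlin_eq_of_lieOp_eq (LinearMap.ext fun a => ?_)
      rw [lieOp_tanOf]
      refine Eq.trans ?_ (hF A a).symm
      show _ = lieOp (tanOf x) (lieOp (tanOf y) a) - lieOp (tanOf y) (lieOp (tanOf x) a)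
      rw [lieOp_tanOf, lieOp_tanOf]
      rfl
    rw [hxy]
    exact LinearMap.ext fun v => hF V v

theorem exists_of_tan (D : LieHopf.Lie k A) : ∃ x : lieSub k A, tanOf x = D :=
  ⟨⟨lieOp D, D, rfl⟩, dlin_eq_of_lieOp_eq (lieOp_tanOf _)⟩

variable [Algebra.FiniteType k A]

theorem finite_lie : Module.Finite k (LieHopf.Lie k A) := by
  obtain ⟨s, hs⟩ := ‹Algebra.FiniteType k A›.out
  let F : LieHopf.Lie k A →ₗ[k] (s → k) :=
    { toFun := fun D a => LieHopf.dlin D a.1
      map_add' := fun D E => rfl
      map_smul' := fun r D => rfl }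
  refine Module.Finite.of_injective F ((injective_iff_map_eq_zero _).mpr fun D hD => ?_)
  refine Derivation.ext_of_adjoin_eq_top _ hs fun a ha => ?_
  exact congrFun hD ⟨a, ha⟩

instance : Module.Finite k (lieSub k A) := by
  haveI := finite_lie (k := k) (A := A)
  exact inferInstanceAs (Module.Finite k (LinearMap.range (tanAct (k := k) (A := A) A)))

variable [CharZero k] [IsDomain A]

/-- A coefficient family stable under invariant derivations and vanishing at the identity is zero. -/
theorem eq_zero_of_stable' (S : Set A) (hS : ∀ a ∈ S, a ∈ aug k A)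
    (hst : ∀ (L : LieHopf.Lie k A), ∀ a ∈ S, lieOp L a ∈ S) {a : A} (ha : a ∈ S) : a = 0 := by
  haveI : IsNoetherianRing A := Algebra.FiniteType.isNoetherianRing k A
  have hne : (aug k A : Ideal A) ≠ ⊤ := RingHom.ker_ne_top _
  rw [← Ideal.mem_bot (R := A), ← Ideal.iInf_pow_eq_bot_of_isDomain _ hne, Submodule.mem_iInf]
  exact fun n => mem_iInf_pow_of_stable S hS hst n ha

/-- On a connected group a subspace stable under the tangent vectors is a subcomodule. -/
theorem isSubcomod_of_stable {U : Submodule k V}
    (hU : ∀ x : lieSub k A, ∀ u ∈ U, repHom V x u ∈ U) : HopfRep.IsSubcomod (k := k) (A := A) U := by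
  refine isSubcomod_iff_actF.mpr fun φ u hu => ?_
  by_contra hcon
  obtain ⟨f, hf, hfU⟩ := Submodule.exists_dual_map_eq_bot_of_notMem hcon inferInstance
  rw [← le_bot_iff, Submodule.map_le_iff_le_comap] at hfU
  let S : Set A := (fun w => coefFun (C := A) f w) '' U
  have h0 : coefFun (C := A) f u = 0 := by
    refine eq_zero_of_stable' (k := k) S ?_ ?_ ⟨u, hu, rfl⟩
    · rintro _ ⟨w, hw, rfl⟩
      show Bialgebra.counitAlgHom k A _ = 0
      rw [Bialgebra.counitAlgHom_apply, counit_coefFun]
      exact hfU hw
    · rintro L _ ⟨w, hw, rfl⟩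
      obtain ⟨x, hx⟩ := exists_of_tan L
      refine ⟨actF (LieHopf.dlin L) w, ?_, (comodHom_actF (isComodHom_coefFun f) _ w)⟩
      rw [← hx]
      exact hU x w hw
  refine hf ?_
  rw [actF_apply]
  have key : ∀ z : V ⊗[k] A, f (slice φ z) = φ (TensorProduct.lid k A (f.rTensor A z)) := fun z => by
    induction z using TensorProduct.induction_on with
    | zero => simp
    | tmul p q => simp [mul_comm]
    | add p q hp hq => simp only [map_add, hp, hq]
  rw [key, ← coefFun_apply, h0, map_zero]

/-- On a connected group a vector killed by the tangent vectors is fixed. -/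
theorem mem_fixedPts_of_killed {v : V} (hv : ∀ x : lieSub k A, repHom V x v = 0) :
    v ∈ HopfRep.fixedPts k A V := by
  refine (fixedPts_actF v).mpr fun φ => ?_
  rw [← sub_eq_zero]
  refine Module.forall_dual_apply_eq_zero_iff k _ |>.mp fun f => ?_
  let a := coefFun (C := A) f v - f v • (1 : A)
  have ha : a = 0 := by
    refine eq_zero_of_stable' (k := k) ({a, 0} : Set A) ?_ ?_ (Set.mem_insert _ _)
    · rintro _ (rfl | rfl)
      · show Bialgebra.counitAlgHom k A _ = 0
        simp [a, Bialgebra.counitAlgHom_apply, counit_coefFun]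
      · exact zero_mem _
    · rintro L _ (rfl | rfl)
      · refine Or.inr ?_
        show lieOp L a = 0
        obtain ⟨x, hx⟩ := exists_of_tan L
        have h1 : actF (LieHopf.dlin L) v = 0 := hx ▸ hv x
        simp only [a, map_sub, map_smul, lieOp_one, smul_zero, sub_zero]
        show actF (LieHopf.dlin L) (coefFun (C := A) f v) = 0
        rw [← comodHom_actF (isComodHom_coefFun f), h1, map_zero]
      · exact Or.inr (map_zero _)
  rw [map_sub, map_smul, smul_eq_mul, actF_apply]
  have key : ∀ z : V ⊗[k] A, f (slice φ z) = φ (TensorProduct.lid k A (f.rTensor A z)) := fun z => by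
    induction z using TensorProduct.induction_on with
    | zero => simp
    | tmul p q => simp [mul_comm]
    | add p q hp hq => simp only [map_add, hp, hq]
  rw [key, ← coefFun_apply, sub_eq_zero.mp ha, map_smul, smul_eq_mul, mul_comm]
  exact sub_self _

end Groth.Agent.LinRed66
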