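import Groth.Agent.LinRed66.Tangent
import Groth.Agent.RedRk29.Fix
import Groth.Agent.AlgGrpQ.Points
import Mathlib.RingTheory.Polynomial.Pochhammer

/-!
Operators which are scalar on simple comodules; the subgroup of points acting trivially on simple comodules.
-/

set_option linter.style.haveILetI false

universe u

open TensorProduct WithConv

namespace Groth.Agent.LinRed66

open Groth.Agent.ComodLib
open Groth.Agent.BigCell29 (Pt pt_ext)

variable {k : Type u} [Field k] {A : Type u} [CommRing A] [HopfAlgebra k A]

theorem apply_actF {V : Type u} [AddCommGroup V] [Module k V] [HopfRep.Comod k A V] (φ : A →ₗ[k] k)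
    (f : V →ₗ[k] k) (v : V) : f (actF φ v) = φ (coefFun (C := A) f v) := by
  rw [actF_apply, coefFun_apply]
  generalize (HopfRep.Comod.coact (k := k) (A := A) v) = z
  induction z using TensorProduct.induction_on with
  | zero => simp
  | tmul p q => simp [mul_comm]
  | add p q hp hq => simp only [map_add, hp, hq]

/-- A form acting by a scalar on every simple comodule acts by that scalar up to nilpotents. -/
theorem isNilpotent_of_simple (φ : A →ₗ[k] k) (c : k)
    (hx : ∀ (S : Type u) [AddCommGroup S] [Module k S] [HopfRep.Comod k A S], Module.Finite k S →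
      HopfRep.IsSimpleComod k A S → ∀ s : S, actF φ s = c • s) :
    ∀ (n : ℕ) (V : Type u) [AddCommGroup V] [Module k V] [HopfRep.Comod k A V] [Module.Finite k V],
      Module.finrank k V = n → IsNilpotent (actF φ - c • (1 : Module.End k V)) := by
  intro n
  induction n using Nat.strong_induction_on with
  | _ n ih =>
    intro V _ _ cV _ hn
    rcases subsingleton_or_nontrivial V with h | h
    · exact ⟨1, Subsingleton.elim _ _⟩
    obtain ⟨S, -, hSf, hS, hS0, hmin⟩ := exists_simple_le (k := k) (C := A) (V := V) isSubcomod_top top_ne_bot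
    haveI := hSf
    letI cS : HopfRep.Comod k A S := ComodSub.Comod.restr cV S hS
    have hi : Hoch.IsComodHom A S.subtype := ComodSub.isComodHom_subtype cV S hS
    have hsimple : HopfRep.IsSimpleComod k A S := by
      refine ⟨(Submodule.nontrivial_iff_ne_bot).mpr hS0, fun U hU => ?_⟩
      rcases hmin (U.map S.subtype) (isSubcomod_map hi hU) (Submodule.map_subtype_le S U) with h' | h'
      · left
        exact eq_bot_iff.mpr fun u hu => by simpa using h'.le (Submodule.mem_map_of_mem (f := S.subtype) hu)
      · right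
        exact Submodule.map_injective_of_injective S.injective_subtype (h'.trans (Submodule.map_subtype_top S).symm)
    letI cQ : HopfRep.Comod k A (V ⧸ S) := ComodSub.Comod.quot cV S hS
    have hq : Hoch.IsComodHom A S.mkQ := ComodSub.isComodHom_mkQ cV S hS
    have hlt : Module.finrank k (V ⧸ S) < n := by
      rw [← hn, ← S.finrank_quotient_add_finrank]
      haveI : Nontrivial S := hsimple.1
      have := Module.finrank_pos (R := k) (M := S)
      omega
    obtain ⟨m, hm⟩ := ih _ hlt (V ⧸ S) rfl
    refine ⟨m + 1, LinearMap.ext fun v => ?_⟩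
    have key : ∀ (j : ℕ) (v : V), S.mkQ ((((actF φ : Module.End k V) - c • 1) ^ j) v) =
        (((actF φ : Module.End k (V ⧸ S)) - c • 1) ^ j) (S.mkQ v) := fun j => by
      induction j with
      | zero => intro v; simp
      | succ j ihj =>
        intro v
        rw [pow_succ', pow_succ', Module.End.mul_apply, Module.End.mul_apply, ← ihj]
        simp only [LinearMap.sub_apply, LinearMap.smul_apply, Module.End.one_apply, map_sub, map_smul,
          comodHom_actF hq]
    have hmem : (((actF φ : Module.End k V) - c • 1) ^ m) v ∈ S := by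
      rw [← Submodule.Quotient.mk_eq_zero, ← Submodule.mkQ_apply, key, hm, LinearMap.zero_apply]
    rw [pow_succ', Module.End.mul_apply, LinearMap.zero_apply, LinearMap.sub_apply, LinearMap.smul_apply,
      Module.End.one_apply]
    have h1 := congrArg S.subtype (hx S hSf hsimple ⟨_, hmem⟩)
    rw [comodHom_actF hi] at h1
    exact sub_eq_zero.mpr h1

variable (k A)

/-- The points acting trivially on every simple comodule. -/
noncomputable def simpleKer : Subgroup (Pt k A k) where
  carrier := {g | ∀ (S : Type u) [AddCommGroup S] [Module k S] [HopfRep.Comod k A S], Module.Finite k S →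
    HopfRep.IsSimpleComod k A S → AlgGrpQ.rho k A S g = 1}
  one_mem' := fun S _ _ _ _ _ => map_one _
  mul_mem' := fun {g h} hg hh S _ _ _ hf hs => by rw [map_mul, hg S hf hs, hh S hf hs, one_mul]
  inv_mem' := fun {g} hg S _ _ _ hf hs => by
    have h := map_mul (AlgGrpQ.rho k A S) g⁻¹ g
    rw [inv_mul_cancel, map_one, hg S hf hs, mul_one] at h
    exact h.symm

theorem normal_simpleKer : (simpleKer k A).Normal where
  conj_mem := fun g hg h S _ _ _ hf hs => by
    rw [map_mul, map_mul, hg S hf hs, mul_one, ← map_mul, mul_inv_cancel, map_one]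

variable [IsAlgClosed k] [CharZero k] [Algebra.FiniteType k A]

/-- Without unipotent normal subgroups only the identity acts trivially on the simple comodules. -/
theorem simpleKer_eq_bot (hred : RedRk29.NoUnipotentNormal k A) : simpleKer k A = ⊥ := by
  classical
  obtain ⟨s, hs⟩ := (Algebra.FiniteType.out : (⊤ : Subalgebra k A).FG)
  obtain ⟨U, hUf, hsU, hU⟩ := exists_finite_subcomod_le (k := k) (C := A) (V := A) s.finite_toSet
  letI cU : HopfRep.Comod k A U := ComodSub.Comod.restr (HopfRep.Comod.regular k A) U hU
  have hi : Hoch.IsComodHom A U.subtype := ComodSub.isComodHom_subtype _ U hU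
  let ρ := AlgGrpQ.rho k A U
  have hgen : RedRk29.Generates ρ := by
    refine eq_top_iff.mpr (hs.symm.le.trans (Algebra.adjoin_mono fun a ha => ?_))
    refine ⟨⟨a, hsU ha⟩, Coalgebra.counit ∘ₗ U.subtype, fun g => ?_⟩
    rw [LinearMap.comp_apply, AlgGrpQ.rho_apply, comodHom_actF hi, ← AlgGrpQ.counit_rho g a, AlgGrpQ.rho_apply]
    rfl
  have hnil : ∀ g ∈ simpleKer k A, IsNilpotent (ρ g - 1) := fun g hg => by
    have h := isNilpotent_of_simple (k := k) (A := A) g.ofConv.toLinearMap 1
      (fun S _ _ _ hf hS s => by
        rw [one_smul, ← AlgGrpQ.rho_apply, hg S hf hS, Module.End.one_apply])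
      _ U rfl
    rwa [one_smul] at h
  refine hred U ρ (RedRk29.isRegRep_rho) hgen _ (normal_simpleKer k A) (fun a b hab => ?_) hnil
  by_contra hcon
  push Not at hcon
  obtain ⟨⟨h₁, hh₁, ha⟩, h₂, hh₂, hb⟩ := hcon
  set g := h₁⁻¹ * h₂ with hgdef
  have hg : g ∈ simpleKer k A := mul_mem (inv_mem hh₁) hh₂
  obtain ⟨m, hm⟩ := hnil g hg
  have hpoly : ∀ x : A, ∃ P : Polynomial k, ∀ n : ℕ, (h₁ * g ^ n).ofConv x = P.eval (n : k) := by
    intro x
    have hx : x ∈ Algebra.adjoin k {a : A | ∃ v φ, ∀ g, (φ : U →ₗ[k] k) (ρ g v) = g.ofConv a} := by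
      rw [show Algebra.adjoin k _ = (⊤ : Subalgebra k A) from hgen]; exact Algebra.mem_top
    induction hx using Algebra.adjoin_induction with
    | mem x hx =>
      obtain ⟨v, φ, hφ⟩ := hx
      refine ⟨∑ i ∈ Finset.range m, Polynomial.C (φ (ρ h₁ (((ρ g - 1) ^ i) v)) / (Nat.factorial i : k)) *
        descPochhammer k i, fun n => ?_⟩
      rw [← hφ, map_mul, map_pow, Polynomial.eval_finsetSum]
      conv_lhs => rw [← sub_add_cancel (ρ g) 1, (Commute.one_right _).add_pow]
      simp only [one_pow, mul_one, Finset.mul_sum, LinearMap.sum_apply, map_sum, Module.End.mul_apply,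
        Module.End.natCast_apply, Polynomial.eval_mul, Polynomial.eval_C]
      have hterm : ∀ i, φ (ρ h₁ (((ρ g - 1) ^ i) ((n.choose i) • v))) =
          φ (ρ h₁ (((ρ g - 1) ^ i) v)) / (Nat.factorial i : k) * Polynomial.eval (n : k) (descPochhammer k i) := by
        intro i
        rw [map_nsmul, map_nsmul, map_nsmul, nsmul_eq_mul, Nat.cast_choose_eq_descPochhammer_div]
        ring
      simp only [hterm]
      refine (Finset.sum_subset (Finset.range_mono (le_max_left (n + 1) m))
        (fun i _ hi => by rw [descPochhammer_eval_eq_descFactorial, Nat.descFactorial_eq_zero_iff_lt.mpr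
          (by simpa using hi), Nat.cast_zero, mul_zero])).trans ?_
      refine (Finset.sum_subset (Finset.range_mono (le_max_right (n + 1) m)) fun i _ hi => ?_).symm
      have : (ρ g - 1) ^ i = 0 := pow_eq_zero_of_le (by simpa using hi) hm
      rw [this, LinearMap.zero_apply, map_zero, map_zero, zero_div, zero_mul]
    | algebraMap r => exact ⟨Polynomial.C r, fun n => by simp⟩
    | add p q _ _ hp hq =>
      obtain ⟨P, hP⟩ := hp
      obtain ⟨Q, hQ⟩ := hq
      exact ⟨P + Q, fun n => by rw [map_add, hP, hQ, Polynomial.eval_add]⟩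
    | mul p q _ _ hp hq =>
      obtain ⟨P, hP⟩ := hp
      obtain ⟨Q, hQ⟩ := hq
      exact ⟨P * Q, fun n => by rw [map_mul, hP, hQ, Polynomial.eval_mul]⟩
  obtain ⟨P, hP⟩ := hpoly a
  obtain ⟨Q, hQ⟩ := hpoly b
  have hPQ : P * Q = 0 := by
    refine Polynomial.eq_zero_of_infinite_isRoot _ ((Set.infinite_range_of_injective (Nat.cast_injective (R := k))).mono ?_)
    rintro _ ⟨n, rfl⟩
    show Polynomial.eval _ (P * Q) = 0
    rw [Polynomial.eval_mul, ← hP, ← hQ, ← map_mul]
    exact hab _ (mul_mem hh₁ (pow_mem hg n))
  rcases mul_eq_zero.mp hPQ with h | h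
  · exact ha (by have := hP 0; simpa [h] using this)
  · refine hb ?_
    have := hQ 1
    rw [pow_one, hgdef, mul_inv_cancel_left, h, Polynomial.eval_zero] at this
    exact this

end Groth.Agent.LinRed66
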